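import Cfsg.Agent.H208.PiExc.Fus
import Cfsg.Agent.H249.Pi.FldType
import Cfsg.Agent.H296.ESixGF

/-!
# S4324, CY1 (helper208): the algebraic automorphisms of the finite exceptional groups

* `AlgX hp r ι x` : `x : MulAut K₀` is the restriction of an algebraic automorphism of `D.group k`; `AlgX.inner`, `AlgX.mul`,
  `AlgX.pow`, `AlgX.fus_le`;
* `algX_diag`, `algX_graph` : inner-diagonal automorphisms and products with the graph automorphism of `E₆`;
* `fus_le_model` : `H469.Exc.Model`, inner automorphisms;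
* `cases_78`, `cases_6` : `E₇`, `E₈`, `E₆`.
-/

set_option autoImplicit false
set_option linter.unusedSectionVars false

namespace Cfsg.Agent.H208.PiExc

open CoxeterSystem Cfsg Cfsg.Lie Cfsg.Lie.ChevalleyDatum
open Cfsg.Agent.ChevalleyStructure Cfsg.Agent.ChevalleyStructure.Elts Cfsg.Agent.ChevalleyStructure.CoxeterGeom
  Cfsg.Agent.ChevalleyStructure.CoxeterGeomTypes Cfsg.Agent.ChevalleyStructure.NPerm
open Cfsg.Agent.Tits.Roots Cfsg.Agent.Tits.Core Cfsg.Agent.Nodes Cfsg.Agent.Nodes.Reps Cfsg.Agent.Nodes.BNOf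
  Cfsg.Agent.Nodes.RGDChev Cfsg.Agent.Nodes.Bruhat
open Cfsg.Agent.KFacts.RgdField Cfsg.Agent.KFacts.RgdChevCoord Cfsg.Agent.BpExc.TorCent Cfsg.Agent.BpExc.TorChev
open Cfsg.Agent.GpExc.Field Cfsg.Agent.BpExc.Tow Cfsg.Agent.BpExc.TowChev Cfsg.Agent.BpExc.Fr
  Cfsg.Agent.BpExc.LangFr Cfsg.Agent.LangThm Cfsg.Agent.BpExc Cfsg.Agent.H129.TorusChar
open Cfsg.Agent.H216.Pi (fus InC FC)
open Cfsg.Agent.H296.Core (charP_closure locFin_closure)
open Cfsg.Agent.BpExc.FamTw.Gr Cfsg.Agent.ChevalleyStructure.GraphSymm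
open Subgroup (zpowers closure)

universe u v

section

variable {D : ChevalleyDatum} {l : ℕ} {M : CoxeterMatrix (Fin l)} {hp : IsType D l M} {k : Type u} [Field k]
  {r : ℕ} [Fact r.Prime] [CharP k r]

theorem pwTrue : PW hp (fun _ => True) := ⟨trivial, fun _ _ _ _ => trivial, fun _ _ => trivial, fun _ => trivial⟩

/-- `x` is the restriction of an algebraic automorphism -/
def AlgX (hp : IsType D l M) (r : ℕ) [Fact r.Prime] [CharP k r] {K₀ : Type v} [Group K₀] (ι : K₀ →* ↥(D.group k))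
    (x : MulAut K₀) : Prop :=
  ∃ α, AlgP hp r (fun _ => True) α ∧ ∀ a, α (ι a) = ι (x a)

variable {K₀ : Type v} [Group K₀] {ι : K₀ →* ↥(D.group k)} {x y : MulAut K₀}

theorem AlgX.conj (c : ↥(D.group k)) (h : ∀ a, ι (x a) = c * ι a * c⁻¹) : AlgX hp r ι x :=
  ⟨MulAut.conj c, AlgP.conj pwTrue c, fun a => (h a).symm⟩

theorem AlgX.inner (c : K₀) : AlgX hp r ι (MulAut.conj c) :=
  AlgX.conj (ι c) fun a => by rw [MulAut.conj_apply, map_mul, map_mul, map_inv]

theorem AlgX.one : AlgX hp r ι (1 : MulAut K₀) := ⟨1, AlgP.one pwTrue, fun _ => rfl⟩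

theorem AlgX.mul (h1 : AlgX hp r ι x) (h2 : AlgX hp r ι y) : AlgX hp r ι (x * y) := by
  obtain ⟨α, hα, e⟩ := h1
  obtain ⟨α', hα', e'⟩ := h2
  exact ⟨α * α', AlgP.mul pwTrue hα hα', fun a => by rw [MulAut.mul_apply, MulAut.mul_apply, e', e]⟩

theorem AlgX.pow (h : AlgX hp r ι x) (n : ℕ) : AlgX hp r ι (x ^ n) := by
  induction n with
  | zero => rw [pow_zero]; exact AlgX.one
  | succ n ih => rw [pow_succ]; exact ih.mul h

/-- **The bound of `fus`.** -/
theorem AlgX.fus_le [IsAlgClosed k] (h : AlgX hp r ι x) (hk : LocFin k) (hA : TorAll.HAlg r k)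
    (hι : Function.Injective ι) {s : ℕ} (hs : s.Prime) (hsr : s ≠ r) {N : ℕ} (hN : ∀ n : ℕ, n.totient ≤ l → n ≤ N)
    {y : K₀} (hy : orderOf y = s) : fus x y ≤ N :=
  hN _ (fus_alg pwTrue hk hA hs hsr hι h hy).1

/-- **Inner automorphisms of a group with a model.** -/
theorem fus_le_model {K : Type v} [Group K] (h : H469.Exc.Model hp r K) {s : ℕ} (hs : s.Prime) (hsr : s ≠ r) {N : ℕ}
    (hN : ∀ n : ℕ, n.totient ≤ l → n ≤ N) {x : MulAut K} (hx : ∃ c, x = MulAut.conj c) {y : K} (hy : orderOf y = s) :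
    fus x y ≤ N := by
  obtain ⟨σ, g, e, ι, -, -, -, -, hι, -, -⟩ := h
  obtain ⟨c, rfl⟩ := hx
  exact AlgX.fus_le (AlgX.inner (hp := hp) (r := r) (ι := ι) c) (H469.Exc.locFin r)
    (TorAll.hAlg_of_isAlgebraic r _) hι hs hsr hN hy

theorem fus_one_le_model {K : Type v} [Group K] (h : H469.Exc.Model hp r K) {s : ℕ} (hs : s.Prime) (hsr : s ≠ r) {N : ℕ}
    (hN : ∀ n : ℕ, n.totient ≤ l → n ≤ N) {y : K} (hy : orderOf y = s) : fus 1 y ≤ N :=
  fus_le_model h hs hsr hN ⟨1, by rw [map_one]⟩ hy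

end

theorem hAlg_closure (F : Type u) [Field F] [Finite F] (r : ℕ) [Fact r.Prime] [CharP F r] :
    TorAll.HAlg r (AlgebraicClosure F) := by
  have h1 := charP_closure F r
  let _ : Algebra (ZMod r) F := ZMod.algebra F r
  have h3 : Algebra.IsAlgebraic (ZMod r) F := Algebra.IsAlgebraic.of_finite (ZMod r) F
  have h4 : Algebra.IsAlgebraic (ZMod r) (AlgebraicClosure F) := Algebra.IsAlgebraic.trans (ZMod r) F _
  exact TorAll.hAlg_of_isAlgebraic r _

/-! ### untwisted groups -/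

section Untw

variable {D : ChevalleyDatum} {l : ℕ} {M : CoxeterMatrix (Fin l)} {hp : IsType D l M} {F : Type u} [Field F]
  {k : Type u} [Field k] [IsAlgClosed k] {r : ℕ} [Fact r.Prime] [CharP k r] {f : F →+* k}

/-- **Inner-diagonal automorphisms.** -/
theorem algX_diag {m : ℕ} {B : Fin l → Fin l → ℤ} (hB : Cfsg.Agent.BpExc.FamExt.InvC D l m B) (hm : m ≠ 0)
    {x : MulAut ↥(D.group F)} {y : ↥(D.group F)} {d : MulAut ↥(D.group F)} (hd : D.IsDiagonalAut d)
    (hxy : ∀ a, x a = y * d a * y⁻¹) : AlgX hp r (emb hp.inList f) x := by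
  obtain ⟨t, -, ht⟩ := H296.Core.diag_ext hp f hB hm
    (fun c _ => IsAlgClosed.exists_pow_nat_eq (f c) (Nat.pos_of_ne_zero hm)) hd
  refine AlgX.conj (emb hp.inList f y * t) fun a => ?_
  rw [hxy, map_mul, map_mul, map_inv, ht]
  group

end Untw

section Six

variable {F : Type u} [Field F] {k : Type u} [Field k] [IsAlgClosed k] {r : ℕ} [Fact r.Prime] [CharP k r] {f : F →+* k}

/-- the graph automorphism of `E₆(k)` is algebraic -/
theorem algP_gr : AlgP H296.ESixGF.hp6 r (fun _ => True) (gr (L := k) H296.ESixGF.hp6.inList symmE6) := by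
  have h1 : IsFrob r 0 (gr (L := k) H296.ESixGF.hp6.inList symmE6) :=
    ⟨symmE6.P k, fun g => by rw [frob_zero, coe_gr]⟩
  have h2 : (gr (L := k) H296.ESixGF.hp6.inList symmE6)⁻¹ = gr H296.ESixGF.hp6.inList symmE6 :=
    inv_eq_of_mul_eq_one_left H296.ESixGF.gr_sq6
  refine ⟨1, gr H296.ESixGF.hp6.inList symmE6, _, by rw [map_one, one_mul], h1, by rw [h2]; exact h1,
    H469.Exc.SigFr.fr_E6 (coe_gr _ symmE6) CoxeterMatrix.E₆.toCoxeterSystem, trivial⟩

/-- **Inner-diagonal-graph automorphisms of `E₆`.** -/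
theorem algX_graph {x : MulAut ↥(chevE6.group F)} {y : ↥(chevE6.group F)} {d : MulAut ↥(chevE6.group F)}
    (hd : chevE6.IsDiagonalAut d) (hxy : ∀ a, x a = y * d (gr H296.ESixGF.hp6.inList symmE6 a) * y⁻¹) :
    AlgX H296.ESixGF.hp6 r (emb H296.ESixGF.hp6.inList f) x := by
  obtain ⟨t, -, ht⟩ := H296.Core.diag_ext H296.ESixGF.hp6 f FamInst.inv_E6 (by norm_num)
    (fun c _ => IsAlgClosed.exists_pow_nat_eq (f c) (by norm_num)) hd
  refine ⟨MulAut.conj (emb H296.ESixGF.hp6.inList f y * t) * gr H296.ESixGF.hp6.inList symmE6,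
    AlgP.mul pwTrue (AlgP.conj pwTrue _) algP_gr, fun a => ?_⟩
  have h1 : gr H296.ESixGF.hp6.inList symmE6 (emb H296.ESixGF.hp6.inList f a) =
      emb H296.ESixGF.hp6.inList f (gr H296.ESixGF.hp6.inList symmE6 a) := by
    apply Subtype.ext
    rw [coe_gr, coe_emb, coe_emb, coe_gr, map_mul, map_mul, map_inv, glMap_P]
  rw [MulAut.mul_apply, h1, MulAut.conj_apply, hxy, map_mul, map_mul, map_inv, ht]
  group

end Six

end Cfsg.Agent.H208.PiExc
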