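import Cfsg.Agent.H208.PiExc.Mat
import Cfsg.Agent.H720.TorusReal
import Cfsg.Agent.H469.Exc.Model
import Cfsg.Agent.H216.Pi.Base

/-!
# S4324, CY1 (helper208): fusion in the algebraic group

`Y = D.group k`, `k` an algebraic closure of `ZMod r`, `ι : K₀ →* Y` injective, `K₀` finite.

* `AlgP hp P α` : `α = conj c * θ`, `θ` a frame automorphism of `Y` which is algebraic (`IsFrob r 0 θ`), with action on the
  lattice satisfying `P`;
* `fus_alg` : `x : MulAut K₀` the restriction of such an automorphism, `y ∈ K₀` of prime order `s ≠ r`: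
  `φ(fus x y) ≤ l`, and in the case of equality `Φ_n(g) = 0` for some `g` with `P g`, `n = fus x y`.
-/

set_option autoImplicit false
set_option linter.unusedSectionVars false

namespace Cfsg.Agent.H208.PiExc

open CoxeterSystem Cfsg Cfsg.Lie Cfsg.Lie.ChevalleyDatum
open Cfsg.Agent.ChevalleyStructure Cfsg.Agent.ChevalleyStructure.Elts Cfsg.Agent.ChevalleyStructure.CoxeterGeom
  Cfsg.Agent.ChevalleyStructure.CoxeterGeomTypes Cfsg.Agent.ChevalleyStructure.NPerm
open Cfsg.Agent.Tits.Roots Cfsg.Agent.Tits.Core Cfsg.Agent.Nodes Cfsg.Agent.Nodes.Reps Cfsg.Agent.Nodes.BNOf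
  Cfsg.Agent.Nodes.RGDChev Cfsg.Agent.Nodes.Bruhat
open Cfsg.Agent.KFacts.RgdField Cfsg.Agent.KFacts.RgdChevCoord Cfsg.Agent.BpExc.TorCent Cfsg.Agent.BpExc.TorChev
open Cfsg.Agent.GpExc.Field Cfsg.Agent.BpExc.Tow Cfsg.Agent.BpExc.TowChev Cfsg.Agent.BpExc.Fr
  Cfsg.Agent.BpExc.LangFr Cfsg.Agent.LangThm Cfsg.Agent.BpExc Cfsg.Agent.H129.TorusChar
open Cfsg.Agent.H216.Pi (fus)
open Subgroup (zpowers closure)

universe u v

/-! ### the group of powers -/

section Cyc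

variable {K : Type*} [Group K] {s : ℕ} [Fact s.Prime]

theorem pow_val_inj {y : K} (hy : orderOf y = s) {i j : ZMod s} (h : y ^ i.val = y ^ j.val) : i = j := by
  rw [pow_eq_pow_iff_modEq, hy] at h
  apply ZMod.val_injective
  have h1 := h
  unfold Nat.ModEq at h1
  rwa [Nat.mod_eq_of_lt (ZMod.val_lt i), Nat.mod_eq_of_lt (ZMod.val_lt j)] at h1

theorem pow_val_mul {y : K} (hy : orderOf y = s) (i j : ZMod s) : (y ^ i.val) ^ j.val = y ^ (i * j).val := by
  rw [← pow_mul, pow_eq_pow_iff_modEq, hy, ZMod.val_mul]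
  exact (Nat.mod_modEq _ _).symm

theorem pow_natCast_val {y : K} (hy : orderOf y = s) (n : ℕ) : y ^ (n : ZMod s).val = y ^ n := by
  rw [pow_eq_pow_iff_modEq, hy, ZMod.val_natCast]
  exact Nat.mod_modEq _ _

/-- **A generator of the fusion group.** -/
theorem exists_gen (S : Subgroup (MulAut K)) {y : K} (hy : orderOf y = s) :
    ∃ (j : (ZMod s)ˣ) (α : MulAut K), α ∈ S ∧ α y = y ^ (j : ZMod s).val ∧
      Nat.card {z : K // z ∈ zpowers y ∧ ∃ α ∈ S, α y = z} = orderOf j := by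
  have hs : s.Prime := Fact.out
  let J : Subgroup (ZMod s)ˣ :=
    { carrier := {j | ∃ α ∈ S, α y = y ^ (j : ZMod s).val}
      one_mem' := ⟨1, S.one_mem, by
        rw [Units.val_one]
        have h1 := pow_natCast_val hy 1
        rw [Nat.cast_one, pow_one] at h1
        rw [h1]; rfl⟩
      mul_mem' := by
        rintro i j ⟨α, hα, h1⟩ ⟨β, hβ, h2⟩
        refine ⟨β * α, S.mul_mem hβ hα, ?_⟩
        rw [MulAut.mul_apply, h1, map_pow, h2, pow_val_mul hy, Units.val_mul, mul_comm (i : ZMod s)]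
      inv_mem' := by
        rintro i ⟨α, hα, h1⟩
        refine ⟨α⁻¹, S.inv_mem hα, ?_⟩
        apply α.injective
        rw [MulAut.apply_inv_self, map_pow, h1, pow_val_mul hy, ← Units.val_mul, mul_inv_cancel, Units.val_one]
        have h2 := pow_natCast_val hy 1
        rw [Nat.cast_one, pow_one] at h2
        exact h2.symm }
  obtain ⟨⟨j, hj⟩, hgen⟩ := IsCyclic.exists_generator (α := J)
  obtain ⟨α, hα, h1⟩ := id hj
  refine ⟨j, α, hα, h1, ?_⟩
  have h2 : orderOf j = Nat.card J := by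
    have h3 := orderOf_eq_card_of_forall_mem_zpowers hgen
    rwa [Subgroup.orderOf_mk] at h3
  rw [h2]
  symm
  refine Nat.card_eq_of_bijective (fun i : J => (⟨y ^ ((i : (ZMod s)ˣ) : ZMod s).val, ⟨Subgroup.npow_mem_zpowers y _, i.2⟩⟩ :
    {z : K // z ∈ zpowers y ∧ ∃ α ∈ S, α y = z})) ⟨fun i i' h => ?_, fun z => ?_⟩
  · have h3 := congrArg Subtype.val h
    exact Subtype.ext (Units.ext (pow_val_inj hy h3))
  · obtain ⟨z, hz, β, hβ, h3⟩ := z
    have hof : IsOfFinOrder y := orderOf_pos_iff.1 (by rw [hy]; exact hs.pos)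
    obtain ⟨n, hn⟩ := (hof.mem_powers_iff_mem_zpowers).2 hz
    have hn' : y ^ n = z := hn
    have hne : (n : ZMod s) ≠ 0 := by
      intro h0
      rw [ZMod.natCast_eq_zero_iff] at h0
      have h4 : z = 1 := by rw [← hn', ← orderOf_dvd_iff_pow_eq_one, hy]; exact h0
      rw [h4] at h3
      have h5 : y = 1 := (map_eq_one_iff β β.injective).1 h3
      rw [h5, orderOf_one] at hy
      exact hs.one_lt.ne hy
    refine ⟨⟨Units.mk0 _ hne, β, hβ, ?_⟩, ?_⟩
    · rw [h3, Units.val_mk0, pow_natCast_val hy, hn']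
    · apply Subtype.ext
      show y ^ (Units.mk0 (n : ZMod s) hne : ZMod s).val = z
      rw [Units.val_mk0, pow_natCast_val hy, hn']

end Cyc

/-! ### the additive form of a character of order `s` -/

theorem exists_add {k : Type u} [Field k] {l s : ℕ} [hs : Fact s.Prime] {φ : (Fin l → ℤ) → k} (hφ : IsMC φ)
    (h1 : ∀ x, φ x ^ s = 1) (h2 : ∃ x, φ x ≠ 1) :
    ∃ f : (Fin l → ℤ) →+ ZMod s, f ≠ 0 ∧ ∀ x y (c : ZMod s), φ x ^ c.val = φ y → c * f x = f y := by
  obtain ⟨x₀, hx₀⟩ := h2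
  obtain ⟨ζ, hζ⟩ : ∃ ζ, ζ = φ x₀ := ⟨_, rfl⟩
  have hord : orderOf ζ = s := orderOf_eq_prime (by rw [hζ]; exact h1 x₀) (by rw [hζ]; exact hx₀)
  have hprim : IsPrimitiveRoot ζ s := by rw [← hord]; exact IsPrimitiveRoot.orderOf ζ
  have hne : NeZero s := ⟨hs.out.ne_zero⟩
  have key : ∀ x, ∃ i : ZMod s, ζ ^ i.val = φ x := by
    intro x
    obtain ⟨i, hi, h3⟩ := hprim.eq_pow_of_pow_eq_one (h1 x)
    exact ⟨(i : ZMod s), by rw [ZMod.val_natCast, Nat.mod_eq_of_lt hi, h3]⟩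
  choose f hf using key
  have hinj : ∀ a b : ZMod s, ζ ^ a.val = ζ ^ b.val → a = b := by
    intro a b h
    apply ZMod.val_injective
    exact hprim.pow_inj (ZMod.val_lt a) (ZMod.val_lt b) h
  have hmod : ∀ n : ℕ, ζ ^ (n : ZMod s).val = ζ ^ n := by
    intro n
    rw [ZMod.val_natCast]
    conv_rhs => rw [← Nat.mod_add_div n s, pow_add, pow_mul, hprim.pow_eq_one, one_pow, mul_one]
  have hmul : ∀ a b : ZMod s, (ζ ^ a.val) ^ b.val = ζ ^ (a * b).val := by
    intro a b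
    rw [← pow_mul, ← hmod (a.val * b.val), Nat.cast_mul, ZMod.natCast_zmod_val, ZMod.natCast_zmod_val]
  have hadd : ∀ a b : ZMod s, ζ ^ a.val * ζ ^ b.val = ζ ^ (a + b).val := by
    intro a b
    rw [← pow_add, ← hmod (a.val + b.val), Nat.cast_add, ZMod.natCast_zmod_val, ZMod.natCast_zmod_val]
  refine ⟨AddMonoidHom.mk' f fun x y => hinj _ _ ?_, ?_, ?_⟩
  · rw [hf, hφ.add, ← hadd, hf, hf]
  · intro h0
    have h3 : f x₀ = 0 := DFunLike.congr_fun h0 x₀
    apply hx₀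
    rw [← hf, h3, ZMod.val_zero, pow_zero]
  · intro x y c h
    show c * f x = f y
    apply hinj
    rw [mul_comm, ← hmul, hf, hf, h]

/-! ### algebraic automorphisms -/

section Alg

variable {D : ChevalleyDatum} {l : ℕ} {M : CoxeterMatrix (Fin l)} (hp : IsType D l M) {k : Type u} [Field k]
  (r : ℕ) [Fact r.Prime] [CharP k r]

/-- algebraic automorphisms with action on the lattice satisfying `P` -/
def AlgP (P : ((Fin l → ℤ) ≃+ (Fin l → ℤ)) → Prop) (α : MulAut ↥(D.group k)) : Prop :=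
  ∃ (c : ↥(D.group k)) (θ : MulAut ↥(D.group k)) (g : (Fin l → ℤ) ≃+ (Fin l → ℤ)),
    α = MulAut.conj c * θ ∧ IsFrob r 0 θ ∧ IsFrob r 0 θ⁻¹ ∧
      Fr M.toCoxeterSystem hp.isCartan (TT D k) (XX D l k) θ g ∧ P g

/-- the conditions on `P` -/
structure PW (P : ((Fin l → ℤ) ≃+ (Fin l → ℤ)) → Prop) : Prop where
  one : P (AddEquiv.refl _)
  mul : ∀ g g', P g → P g' → P (g.trans g')
  inv : ∀ g, P g → P g.symm
  rep : ∀ w, P (repAut M.toCoxeterSystem hp.isCartan w)

variable {hp} {r} {P : ((Fin l → ℤ) ≃+ (Fin l → ℤ)) → Prop} (hP : PW hp P)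

include hP

theorem AlgP.one : AlgP hp r P (1 : MulAut ↥(D.group k)) :=
  ⟨1, 1, AddEquiv.refl _, by rw [map_one, one_mul], IsFrob.one, by rw [inv_one]; exact IsFrob.one, Fr.one, hP.one⟩

theorem AlgP.conj (c : ↥(D.group k)) : AlgP hp r P (MulAut.conj c) :=
  ⟨c, 1, AddEquiv.refl _, by rw [mul_one], IsFrob.one, by rw [inv_one]; exact IsFrob.one, Fr.one, hP.one⟩

omit hP in
theorem mul_conj' {Y : Type*} [Group Y] (θ : MulAut Y) (c : Y) : θ * MulAut.conj c = MulAut.conj (θ c) * θ := by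
  ext y
  simp [MulAut.mul_apply]

theorem AlgP.mul {α β : MulAut ↥(D.group k)} (h1 : AlgP hp r P α) (h2 : AlgP hp r P β) : AlgP hp r P (α * β) := by
  obtain ⟨c, θ, g, rfl, hθ, hθi, F, hg⟩ := h1
  obtain ⟨c', θ', g', rfl, hθ', hθi', F', hg'⟩ := h2
  refine ⟨c * θ c', θ * θ', g'.trans g, ?_, ?_, ?_, F.mul F', hP.mul _ _ hg' hg⟩
  · rw [map_mul]
    calc MulAut.conj c * θ * (MulAut.conj c' * θ') = MulAut.conj c * (θ * MulAut.conj c') * θ' := by group
      _ = MulAut.conj c * (MulAut.conj (θ c') * θ) * θ' := by rw [mul_conj']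
      _ = _ := by group
  · have h := hθ.mul hθ'
    rwa [zero_add] at h
  · have h := hθi'.mul hθi
    rw [zero_add] at h
    rwa [mul_inv_rev]

theorem AlgP.inv {α : MulAut ↥(D.group k)} (h1 : AlgP hp r P α) : AlgP hp r P α⁻¹ := by
  obtain ⟨c, θ, g, rfl, hθ, hθi, F, hg⟩ := h1
  refine ⟨θ⁻¹ c⁻¹, θ⁻¹, g.symm, ?_, hθi, by rwa [inv_inv], F.inv, hP.inv _ hg⟩
  rw [mul_inv_rev, ← map_inv, mul_conj']

/-- the algebraic automorphisms as a subgroup -/
def algS (r : ℕ) [Fact r.Prime] [CharP k r] (hP : PW hp P) : Subgroup (MulAut ↥(D.group k)) where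
  carrier := {α | AlgP hp r P α}
  one_mem' := AlgP.one hP
  mul_mem' h1 h2 := AlgP.mul hP h1 h2
  inv_mem' h1 := AlgP.inv hP h1

/-- restrictions to a subgroup -/
theorem closure_alg {K₀ : Type v} [Group K₀] {ι : K₀ →* ↥(D.group k)} {x : MulAut K₀}
    (hx : ∃ α, AlgP hp r P α ∧ ∀ a, α (ι a) = ι (x a)) {β : MulAut K₀}
    (hβ : β ∈ closure ({x} ∪ Set.range (MulAut.conj : K₀ → MulAut K₀))) :
    ∃ α, AlgP hp r P α ∧ ∀ a, α (ι a) = ι (β a) := by
  induction hβ using Subgroup.closure_induction with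
  | mem β h =>
    rcases h with h | ⟨c, rfl⟩
    · rw [Set.mem_singleton_iff.1 h]
      exact hx
    · refine ⟨MulAut.conj (ι c), AlgP.conj hP _, fun a => ?_⟩
      rw [MulAut.conj_apply, MulAut.conj_apply, map_mul, map_mul, map_inv]
  | one => exact ⟨1, AlgP.one hP, fun a => rfl⟩
  | mul β γ _ _ h1 h2 =>
    obtain ⟨α, hα, e⟩ := h1
    obtain ⟨α', hα', e'⟩ := h2
    exact ⟨α * α', AlgP.mul hP hα hα', fun a => by rw [MulAut.mul_apply, MulAut.mul_apply, e', e]⟩
  | inv β _ h1 =>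
    obtain ⟨α, hα, e⟩ := h1
    refine ⟨α⁻¹, AlgP.inv hP hα, fun a => ?_⟩
    apply α.injective
    rw [MulAut.apply_inv_self, e, MulAut.apply_inv_self]

/-- **Fusion in the algebraic group**, one automorphism. -/
theorem alg_pow [IsAlgClosed k] (hk : LocFin k) (hA : TorAll.HAlg r k) {s : ℕ} [hs : Fact s.Prime] (hsr : s ≠ r)
    {y : ↥(D.group k)} (hy : orderOf y = s) {j : ZMod s} (hj : j ≠ 0) {α : MulAut ↥(D.group k)} (hα : AlgP hp r P α)
    (h : α y = y ^ j.val) :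
    (orderOf j).totient ≤ l ∧ ((orderOf j).totient = l → ∃ g : (Fin l → ℤ) ≃+ (Fin l → ℤ), P g ∧
      Polynomial.aeval (g.toAddMonoidHom.toIntLinearMap : Module.End ℤ (Fin l → ℤ))
        (Polynomial.cyclotomic (orderOf j) ℤ) = 0) := by
  obtain ⟨cs⟩ : Nonempty (CoxeterSystem M M.Group) := ⟨M.toCoxeterSystem⟩
  have hW : Finite M.Group := finite_W hp M.toCoxeterSystem
  have H := tow hp M.toCoxeterSystem hk r
  obtain ⟨z, hz⟩ := H944.TorAnyChev.exists_conj_mem_TT hp r hA hs.out.ne_zero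
    ((Nat.coprime_primes hs.out Fact.out).2 hsr) (by rw [← hy]; exact pow_orderOf_eq_one y)
  obtain ⟨t, ht⟩ : ∃ t, t = z * y * z⁻¹ := ⟨_, rfl⟩
  rw [← ht] at hz
  have hts : t ^ s = 1 := by
    rw [ht, conj_pow, ← hy, pow_orderOf_eq_one, mul_one, mul_inv_cancel]
  have ht1 : t ≠ 1 := by
    intro h1
    rw [h1] at ht
    have h2 : y = 1 := by
      have h3 : y = z⁻¹ * (z * y * z⁻¹) * z := by group
      rw [h3, ← ht]; group
    rw [h2, orderOf_one] at hy
    exact hs.out.one_lt.ne hy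
  -- the conjugate automorphism
  have hβ : AlgP hp r P (MulAut.conj z * α * MulAut.conj z⁻¹) :=
    AlgP.mul hP (AlgP.mul hP (AlgP.conj hP z) hα) (AlgP.conj hP _)
  have hβt : (MulAut.conj z * α * MulAut.conj z⁻¹) t = t ^ j.val := by
    rw [MulAut.mul_apply, MulAut.mul_apply, MulAut.conj_apply, MulAut.conj_apply, inv_inv]
    have h3 : z⁻¹ * t * z = y := by rw [ht]; group
    rw [h3, h, ht, conj_pow]
  obtain ⟨c, θ, g, hβe, hθ, -, F, hg⟩ := hβ
  rw [hβe, MulAut.mul_apply, MulAut.conj_apply] at hβt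
  have hθt : θ t ∈ TT D k := (F.tor t).2 hz
  have htj : t ^ j.val ∈ TT D k := pow_mem hz _
  have C := coordsL hp M.toCoxeterSystem hk r
  rw [← TL_eq hp hk, ← XL_eq hp hk] at C
  have hθt' : θ t ∈ TL (Tj hp (k := k)) := by rw [TL_eq hp hk]; exact hθt
  have htj' : t ^ j.val ∈ TL (Tj hp (k := k)) := by rw [TL_eq hp hk]; exact htj
  have hcG : c ∈ GG M.toCoxeterSystem hp.isCartan (TL (Tj hp (k := k))) (XL (Xj hp)) := by
    rw [GG_eq_top hp M.toCoxeterSystem hk]; exact Subgroup.mem_top _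
  obtain ⟨m', -, w, n, hn, hnt, -⟩ := BpExc.Fr.exists_form H C hθt' htj' hcG (by rw [← hβt]; group)
  obtain ⟨hN, hn'⟩ : ∃ hN : NSys M (TT D k) (nc hp k), Rp M.toCoxeterSystem hN w n := by
    have key : ∀ (T : Subgroup ↥(D.group k)) (h1 : NSys M T (nc hp k)) (_ : T = TT D k),
        Rp M.toCoxeterSystem h1 w n → ∃ hN : NSys M (TT D k) (nc hp k), Rp M.toCoxeterSystem hN w n := by
      intro T h1 h2 h3
      subst h2
      exact ⟨h1, h3⟩
    exact key _ _ (TL_eq hp hk) hn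
  have hnt' : n * θ t * n⁻¹ = t ^ j.val := by rw [hnt]; group
  -- the action on the lattice
  obtain ⟨G, hG⟩ : ∃ G : (Fin l → ℤ) ≃+ (Fin l → ℤ), G = g.trans (repAut M.toCoxeterSystem hp.isCartan w) := ⟨_, rfl⟩
  have hPG : P G := by rw [hG]; exact hP.mul _ _ hg (hP.rep w)
  have hrel : ∀ x, cX hp t (G x) ^ j.val = cX hp t x := by
    intro x
    have h1 := cX_rp hp M.toCoxeterSystem hk r hn' hθt (g x)
    rw [hnt', cX_pow hp hz] at h1
    have h2 := cX_sigma hp M.toCoxeterSystem hθ F hz x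
    rw [pow_zero, pow_one] at h2
    rw [h2] at h1
    rw [hG]
    exact h1
  have hFG : Fr M.toCoxeterSystem hp.isCartan (TT D k) (XX D l k) (MulAut.conj n * θ) G := by
    rw [hG]
    exact (H720.TorusReal.fr_conj hp M.toCoxeterSystem hk r hn').mul F
  obtain ⟨m, hm, hper⟩ := H720.TorusReal.exists_period' hp M.toCoxeterSystem hFG
  -- the additive form
  have hMC := isMC_cX hp hz
  obtain ⟨f, hf0, hf⟩ := exists_add (s := s) hMC (fun x => by
    rw [← cX_pow hp hz, hts, cX_one]) (by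
    by_contra hcon
    push Not at hcon
    exact ht1 (cX_inj hp hz (one_mem _) fun i => by rw [hcon, cX_one]))
  set E : Module.End ℤ (Fin l → ℤ) := G.toAddMonoidHom.toIntLinearMap with hE
  have hEG : ∀ x, E x = G x := fun _ => rfl
  have hEpow : ∀ (N : ℕ) x, (E ^ N) x = G^[N] x := by
    intro N
    induction N with
    | zero => intro x; rfl
    | succ N ih =>
      intro x
      rw [pow_succ, Module.End.mul_apply, ih, Function.iterate_succ_apply, hEG]
  have hEm : E ^ m = 1 := LinearMap.ext fun x => by rw [hEpow, hper]; rfl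
  have hEf : ∀ x, f (E x) = j⁻¹ * f x := by
    intro x
    have h1 := hf (G x) x j (hrel x)
    rw [hEG, ← h1, inv_mul_cancel_left₀ hj]
  obtain ⟨h1, h2⟩ := totient_orderOf_le E hm hEm f hf0 (inv_ne_zero hj) hEf
  have hoj : orderOf j⁻¹ = orderOf j := by
    have h3 : orderOf ((Units.mk0 j hj)⁻¹ : (ZMod s)ˣ) = orderOf (Units.mk0 j hj) := orderOf_inv _
    rw [← orderOf_units, ← orderOf_units] at h3
    rwa [Units.val_inv_eq_inv_val, Units.val_mk0] at h3
  rw [hoj] at h1 h2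
  refine ⟨h1, fun he => ?_⟩
  obtain ⟨N, hN'⟩ := h2 he
  have key : ∀ N : ℕ, ∃ g : (Fin l → ℤ) ≃+ (Fin l → ℤ), P g ∧ (g.toAddMonoidHom.toIntLinearMap : Module.End ℤ _) = E ^ N := by
    intro N
    induction N with
    | zero => exact ⟨AddEquiv.refl _, hP.one, rfl⟩
    | succ N ih =>
      obtain ⟨g', hg', e⟩ := ih
      refine ⟨G.trans g', hP.mul _ _ hPG hg', ?_⟩
      rw [pow_succ, ← e]
      rfl
  obtain ⟨g', hg', e⟩ := key N
  exact ⟨g', hg', by rw [e]; exact hN'⟩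

/-- **Fusion in the algebraic group.** -/
theorem fus_alg [IsAlgClosed k] (hk : LocFin k) (hA : TorAll.HAlg r k) {s : ℕ} (hs : s.Prime) (hsr : s ≠ r)
    {K₀ : Type v} [Group K₀] {ι : K₀ →* ↥(D.group k)} (hι : Function.Injective ι) {x : MulAut K₀}
    (hx : ∃ α, AlgP hp r P α ∧ ∀ a, α (ι a) = ι (x a)) {y : K₀} (hy : orderOf y = s) :
    (fus x y).totient ≤ l ∧ ((fus x y).totient = l → ∃ g : (Fin l → ℤ) ≃+ (Fin l → ℤ), P g ∧
      Polynomial.aeval (g.toAddMonoidHom.toIntLinearMap : Module.End ℤ (Fin l → ℤ))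
        (Polynomial.cyclotomic (fus x y) ℤ) = 0) := by
  have : Fact s.Prime := ⟨hs⟩
  obtain ⟨j, α, hα, h1, h2⟩ := exists_gen (closure ({x} ∪ Set.range (MulAut.conj : K₀ → MulAut K₀))) hy
  obtain ⟨β, hβ, h3⟩ := closure_alg hP hx hα
  have h4 : β (ι y) = (ι y) ^ (j : ZMod s).val := by rw [h3, h1, map_pow]
  have h5 : fus x y = orderOf (j : ZMod s) := by
    rw [orderOf_units]
    exact h2
  rw [h5]
  exact alg_pow hP hk hA hsr (by rw [orderOf_injective ι hι, hy]) j.ne_zero hβ h4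

end Alg

end Cfsg.Agent.H208.PiExc
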