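import Mathlib

/-!
# S4324, CY1 (helper208): integral matrices of finite order with an eigenvalue modulo `s`

* `totient_le` : `Φ_n(A) u = 0`, `u ≠ 0`, `A` an integral `l × l` matrix: `φ(n) ≤ l`, and `Φ_n(A) = 0` in the case of equality;
* `totient_orderOf_le` : `g` an automorphism of `ℤ^l` of finite order, `f : ℤ^l → ZMod s` nonzero with `f(g x) = λ f(x)`:
  `φ(|λ|) ≤ l`, and in the case of equality some power `g ^ (s ^ a)` is a root of `Φ_n`;
* `le_eighteen`, … : the bounds for `n` from the bounds of `φ(n)`.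
-/

set_option autoImplicit false

namespace Cfsg.Agent.H208.PiExc

open Polynomial

variable {l : ℕ}

/-- **Cyclotomic factors of the characteristic polynomial.** -/
theorem totient_le (A : Matrix (Fin l) (Fin l) ℤ) {n : ℕ} (hn : 0 < n) {u : Fin l → ℤ} (hu : u ≠ 0)
    (h : (aeval A (cyclotomic n ℤ)).mulVec u = 0) :
    n.totient ≤ l ∧ (n.totient = l → aeval A (cyclotomic n ℤ) = 0) := by
  set φ : Matrix (Fin l) (Fin l) ℤ →+* Matrix (Fin l) (Fin l) ℚ := (Int.castRingHom ℚ).mapMatrix with hφ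
  have hinj : Function.Injective φ := by
    intro X Y hXY
    ext i j
    have h1 := congrFun (congrFun hXY i) j
    exact Int.cast_injective h1
  set B : Matrix (Fin l) (Fin l) ℚ := φ A with hB
  have hmap : ∀ P : ℤ[X], φ (aeval A P) = aeval B (P.map (Int.castRingHom ℚ)) := by
    intro P
    induction P using Polynomial.induction_on' with
    | add p q hp hq => rw [map_add, map_add, Polynomial.map_add, map_add, hp, hq]
    | monomial m a =>
      rw [Polynomial.map_monomial, aeval_monomial, aeval_monomial, map_mul, map_pow]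
      congr 1
      ext i j
      rw [Matrix.algebraMap_eq_diagonal, Matrix.algebraMap_eq_diagonal]
      show ((Matrix.diagonal _ i j : ℤ) : ℚ) = _
      rw [Matrix.diagonal_apply, Matrix.diagonal_apply]
      split_ifs
      · rfl
      · simp
  have hcyc : (cyclotomic n ℤ).map (Int.castRingHom ℚ) = cyclotomic n ℚ := map_cyclotomic n _
  have hBu : (aeval B (cyclotomic n ℚ)).mulVec (fun i => (u i : ℚ)) = 0 := by
    rw [← hcyc, ← hmap]
    funext i
    have h1 := congrFun h i
    have h2 : (((aeval A (cyclotomic n ℤ)).mulVec u i : ℤ) : ℚ) = 0 := by rw [h1]; simp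
    refine Eq.trans ?_ h2
    simp only [Matrix.mulVec, dotProduct]
    rw [Int.cast_sum]
    refine Finset.sum_congr rfl fun j _ => ?_
    rw [Int.cast_mul]
    rfl
  have hu' : (fun i => (u i : ℚ)) ≠ 0 := by
    intro h1
    apply hu
    funext i
    have h2 : ((u i : ℤ) : ℚ) = 0 := congrFun h1 i
    exact Int.cast_eq_zero.1 h2
  have hirr : Irreducible (cyclotomic n ℚ) := cyclotomic.irreducible_rat hn
  have hdvd : cyclotomic n ℚ ∣ B.charpoly := by
    by_contra h1
    obtain ⟨a, b, hab⟩ := hirr.coprime_iff_not_dvd.2 h1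
    have h2 := congrArg (aeval B) hab
    rw [map_add, map_mul, map_mul, Matrix.aeval_self_charpoly, mul_zero, add_zero, map_one] at h2
    apply hu'
    have h3 : (1 : Matrix (Fin l) (Fin l) ℚ).mulVec (fun i => (u i : ℚ)) = 0 := by
      rw [← h2, ← Matrix.mulVec_mulVec, hBu, Matrix.mulVec_zero]
    rwa [Matrix.one_mulVec] at h3
  have hmonic := Matrix.charpoly_monic B
  have hdeg : B.charpoly.natDegree = l := by
    rw [Matrix.charpoly_natDegree_eq_dim, Fintype.card_fin]
  have hle := Polynomial.natDegree_le_of_dvd hdvd hmonic.ne_zero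
  rw [natDegree_cyclotomic, hdeg] at hle
  refine ⟨hle, fun he => hinj ?_⟩
  rw [hmap, hcyc, map_zero]
  have h1 : cyclotomic n ℚ = B.charpoly := by
    refine (Polynomial.eq_of_monic_of_dvd_of_natDegree_le (cyclotomic.monic n ℚ) hmonic hdvd ?_).symm
    rw [natDegree_cyclotomic, hdeg, he]
  rw [h1, Matrix.aeval_self_charpoly]

/-- the endomorphism ring of `ℤ^l` acts by matrices -/
theorem totient_le' (G : Module.End ℤ (Fin l → ℤ)) {n : ℕ} (hn : 0 < n) {u : Fin l → ℤ} (hu : u ≠ 0)
    (h : aeval G (cyclotomic n ℤ) u = 0) :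
    n.totient ≤ l ∧ (n.totient = l → aeval G (cyclotomic n ℤ) = 0) := by
  have key : ∀ P : ℤ[X], aeval (LinearMap.toMatrixAlgEquiv' G) P = LinearMap.toMatrixAlgEquiv' (aeval G P) := by
    intro P
    exact Polynomial.aeval_algHom_apply (LinearMap.toMatrixAlgEquiv' (R := ℤ) (n := Fin l)).toAlgHom G P
  have h1 := totient_le (LinearMap.toMatrixAlgEquiv' G) hn hu (by
    rw [key]
    have h2 : (LinearMap.toMatrixAlgEquiv' (aeval G (cyclotomic n ℤ))).mulVec u = aeval G (cyclotomic n ℤ) u :=
      LinearMap.toMatrix'_mulVec _ _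
    rw [h2, h])
  refine ⟨h1.1, fun he => ?_⟩
  have h2 := h1.2 he
  rw [key] at h2
  exact (LinearMap.toMatrixAlgEquiv' (R := ℤ) (n := Fin l)).injective (h2.trans (map_zero _).symm)

/-- **Eigenvalues modulo `s` of an automorphism of finite order.** -/
theorem totient_orderOf_le {s : ℕ} [hs : Fact s.Prime] (G : Module.End ℤ (Fin l → ℤ)) {m : ℕ} (hm : 0 < m)
    (hG : G ^ m = 1) (f : (Fin l → ℤ) →+ ZMod s) (hf : f ≠ 0) {c : ZMod s} (hc : c ≠ 0)
    (h : ∀ x, f (G x) = c * f x) :
    (orderOf c).totient ≤ l ∧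
      ((orderOf c).totient = l → ∃ N : ℕ, aeval (G ^ N) (cyclotomic (orderOf c) ℤ) = 0) := by
  obtain ⟨x₀, hx₀⟩ : ∃ x, f x ≠ 0 := by
    by_contra hcon
    push Not at hcon
    exact hf (AddMonoidHom.ext hcon)
  set n := orderOf c with hn
  have hcs : c ^ (s - 1) = 1 := ZMod.pow_card_sub_one_eq_one hc
  have hs1 : 0 < s - 1 := Nat.sub_pos_of_lt hs.out.one_lt
  have hn0 : 0 < n := orderOf_pos_iff.2 (isOfFinOrder_iff_pow_eq_one.2 ⟨s - 1, hs1, hcs⟩)
  -- the prime-to-`s` part
  obtain ⟨a, m', hm', hmm⟩ := Nat.exists_eq_pow_mul_and_not_dvd hm.ne' s hs.out.ne_one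
  have hm'0 : 0 < m' := by
    rcases Nat.eq_zero_or_pos m' with h0 | h0
    · rw [h0, mul_zero] at hmm
      omega
    · exact h0
  set H := G ^ s ^ a with hH
  have hHm : H ^ m' = 1 := by rw [hH, ← pow_mul, ← hmm, hG]
  have hGf : ∀ j x, f ((G ^ j) x) = c ^ j * f x := by
    intro j
    induction j with
    | zero => intro x; rw [pow_zero, pow_zero, one_mul]; rfl
    | succ j ih =>
      intro x
      rw [pow_succ, pow_succ, Module.End.mul_apply, ih, h]
      ring
  have hcs' : c ^ s ^ a = c := by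
    rw [ZMod.pow_card_pow]
  have hHf : ∀ x, f (H x) = c * f x := by
    intro x
    rw [hH, hGf, hcs']
  have hev : ∀ (P : ℤ[X]) x, f (aeval H P x) = aeval c P * f x := by
    intro P
    induction P using Polynomial.induction_on' with
    | add p q hp hq =>
      intro x
      rw [map_add, map_add, LinearMap.add_apply, map_add, hp, hq, add_mul]
    | monomial j b =>
      intro x
      have hHj : ∀ j x, f ((H ^ j) x) = c ^ j * f x := by
        intro j
        induction j with
        | zero => intro x; rw [pow_zero, pow_zero, one_mul]; rfl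
        | succ j ih =>
          intro x
          rw [pow_succ, pow_succ, Module.End.mul_apply, ih, hHf]
          ring
      rw [aeval_monomial, aeval_monomial, Module.End.mul_apply, Module.algebraMap_end_apply, map_zsmul, hHj,
        zsmul_eq_mul, mul_assoc]
      rfl
  have hcm : c ^ m' = 1 := by
    have h1 : f x₀ = c ^ m' * f x₀ := by
      have h2 := hev (X ^ m') x₀
      rw [map_pow, map_pow, aeval_X, aeval_X, hHm] at h2
      exact h2
    exact (mul_eq_right₀ hx₀).1 h1.symm
  have hnm : n ∣ m' := orderOf_dvd_of_pow_eq_one hcm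
  have hprim : IsPrimitiveRoot c n := IsPrimitiveRoot.orderOf c
  -- the complementary factor
  have hprod := prod_cyclotomic_eq_X_pow_sub_one hm'0 ℤ
  have hmem : n ∈ m'.divisors := Nat.mem_divisors.2 ⟨hnm, hm'0.ne'⟩
  rw [← Finset.mul_prod_erase _ _ hmem] at hprod
  set Ψ : ℤ[X] := ∏ d ∈ m'.divisors.erase n, cyclotomic d ℤ with hΨ
  have hΨc : aeval c Ψ ≠ 0 := by
    rw [hΨ, map_prod, Finset.prod_ne_zero_iff]
    intro d hd h0
    obtain ⟨hdn, hd'⟩ := Finset.mem_erase.1 hd
    have hdm := Nat.dvd_of_mem_divisors hd'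
    have hsd : ¬ s ∣ d := fun h1 => hm' (h1.trans hdm)
    have hne : NeZero ((d : ℕ) : ZMod s) := ⟨by rwa [Ne, ZMod.natCast_eq_zero_iff]⟩
    have h1 : (cyclotomic d (ZMod s)).IsRoot c := by
      rw [IsRoot.def, ← map_cyclotomic_int d (ZMod s), eval_map]
      rw [aeval_def] at h0
      exact h0
    rw [isRoot_cyclotomic_iff] at h1
    exact hdn (h1.eq_orderOf.symm ▸ hn.symm ▸ rfl)
  set u := aeval H Ψ x₀ with hu
  have hu0 : u ≠ 0 := by
    intro h0
    have h1 := hev Ψ x₀
    rw [← hu, h0, map_zero] at h1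
    exact (mul_ne_zero hΨc hx₀) h1.symm
  have hΦu : aeval H (cyclotomic n ℤ) u = 0 := by
    rw [hu, ← Module.End.mul_apply, ← map_mul, hprod, map_sub, map_pow, aeval_X, map_one, hHm, sub_self]
    rfl
  obtain ⟨h1, h2⟩ := totient_le' H hn0 hu0 hΦu
  exact ⟨h1, fun he => ⟨s ^ a, h2 he⟩⟩

end Cfsg.Agent.H208.PiExc
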