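import Mathlib
import Cfsg.Agent.S1062
import Cfsg.Agent.S1063
import Cfsg.Agent.S1064
import Cfsg.Agent.S1065
import Cfsg.Agent.S1066

/-!
# S4324, CY1 (helper208): the prime divisors of the orders, bounds from `φ(n)`

* `le_E8`, `le_E7` : `17 ≤ r` for a prime `r ≥ 3` not dividing the order; `le_E6`, `le_twE6`, `le_F4` : `11 ≤ r`;
* `le_of_totient8`, `le_of_totient7`, `le_of_totient6`, `le_of_totient4`, `le_of_totient2` : `n ≤ 30, 18, 18, 12, 6`.
-/

set_option autoImplicit false

namespace Cfsg.Agent.H208.PiExc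

open Cfsg Cfsg.Lie

/-! ### the totient bounds -/

theorem dvd_5040 {n : ℕ} (hn : 0 < n) (h : n.totient ≤ 8) : n ∣ 5040 := by
  rw [Nat.dvd_iff_prime_pow_dvd_dvd]
  intro p k hp hk
  rcases Nat.eq_zero_or_pos k with rfl | hk0
  · rw [pow_zero]; exact one_dvd _
  have h1 : (p ^ k).totient ∣ n.totient := Nat.totient_dvd_of_dvd hk
  have h2 : 0 < n.totient := Nat.totient_pos.2 hn
  have h3 : (p ^ k).totient ≤ 8 := (Nat.le_of_dvd h2 h1).trans h
  rw [Nat.totient_prime_pow hp hk0] at h3
  have hp2 := hp.two_le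
  have h4 : p - 1 ≤ p ^ (k - 1) * (p - 1) := Nat.le_mul_of_pos_left _ (pow_pos hp.pos _)
  have hp9 : p ≤ 9 := by omega
  have hk5 : k ≤ 4 := by
    by_contra hcon
    have h5 : 2 ^ 4 ≤ p ^ (k - 1) := (Nat.pow_le_pow_left hp2 4).trans (Nat.pow_le_pow_right hp.pos (by omega))
    have h6 : p ^ (k - 1) ≤ p ^ (k - 1) * (p - 1) := Nat.le_mul_of_pos_right _ (by omega)
    omega
  interval_cases p <;> first
    | (exfalso; revert hp; decide)
    | (interval_cases k <;> first | decide | (exfalso; revert h3; decide))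

theorem tab5040 : ∀ n ∈ Nat.divisors 5040, n.totient ≤ 8 → n ≤ 30 ∧ (n.totient ≤ 7 → n ≤ 18) ∧
    (n.totient ≤ 4 → n ≤ 12) ∧ (n.totient ≤ 2 → n ≤ 6) := by decide +kernel

theorem le_of_totient8 (n : ℕ) (h : n.totient ≤ 8) : n ≤ 30 := by
  rcases Nat.eq_zero_or_pos n with rfl | hn
  · omega
  · exact (tab5040 n (Nat.mem_divisors.2 ⟨dvd_5040 hn h, by norm_num⟩) h).1

theorem le_of_totient7 (n : ℕ) (h : n.totient ≤ 7) : n ≤ 18 := by
  rcases Nat.eq_zero_or_pos n with rfl | hn
  · omega
  · exact (tab5040 n (Nat.mem_divisors.2 ⟨dvd_5040 hn (by omega), by norm_num⟩) (by omega)).2.1 h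

theorem le_of_totient6 (n : ℕ) (h : n.totient ≤ 6) : n ≤ 18 := le_of_totient7 n (by omega)

theorem le_of_totient4 (n : ℕ) (h : n.totient ≤ 4) : n ≤ 12 := by
  rcases Nat.eq_zero_or_pos n with rfl | hn
  · omega
  · exact (tab5040 n (Nat.mem_divisors.2 ⟨dvd_5040 hn (by omega), by norm_num⟩) (by omega)).2.2.1 h

theorem le_of_totient2 (n : ℕ) (h : n.totient ≤ 2) : n ≤ 6 := by
  rcases Nat.eq_zero_or_pos n with rfl | hn
  · omega
  · exact (tab5040 n (Nat.mem_divisors.2 ⟨dvd_5040 hn (by omega), by norm_num⟩) (by omega)).2.2.2 h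

/-! ### Fermat -/

theorem dvd_or {q : ℕ} (hq : 0 < q) {r d : ℕ} (hr : r.Prime) (hd : r - 1 ∣ d) : r ∣ q ∨ r ∣ q ^ d - 1 := by
  have : Fact r.Prime := ⟨hr⟩
  by_cases h : r ∣ q
  · exact Or.inl h
  · right
    have h1 : (q : ZMod r) ≠ 0 := by rwa [Ne, ZMod.natCast_eq_zero_iff]
    obtain ⟨c, rfl⟩ := hd
    have h2 : (q : ZMod r) ^ ((r - 1) * c) = 1 := by rw [pow_mul, ZMod.pow_card_sub_one_eq_one h1, one_pow]
    rw [← ZMod.natCast_eq_zero_iff, Nat.cast_sub (Nat.one_le_pow _ _ hq), Nat.cast_pow, Nat.cast_one, h2, sub_self]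

theorem prime_lt {r : ℕ} (hr : r.Prime) (h3 : 3 ≤ r) (h : r < 17) : r = 3 ∨ r = 5 ∨ r = 7 ∨ r = 11 ∨ r = 13 := by
  interval_cases r <;> first | omega | (exfalso; revert hr; decide)

variable {F : Type*} [Field F] [Fintype F]

theorem le_E8 {r : ℕ} (hr : r.Prime) (h3 : 3 ≤ r) (h : ¬ r ∣ Nat.card ↥(chevE8.group F)) : 17 ≤ r := by
  by_contra hcon
  apply h
  have hq := Fintype.card_pos (α := F)
  have e := S1065.result (F := F) (q := Fintype.card F) rfl
  rw [e]
  have key : ∀ d, (r ∣ Fintype.card F ∨ r ∣ Fintype.card F ^ d - 1) → d ∈ [2, 8, 12, 20] →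
      r ∣ Fintype.card F ^ 120 * (Fintype.card F ^ 2 - 1) * (Fintype.card F ^ 8 - 1) * (Fintype.card F ^ 12 - 1) *
        (Fintype.card F ^ 14 - 1) * (Fintype.card F ^ 18 - 1) * (Fintype.card F ^ 20 - 1) * (Fintype.card F ^ 24 - 1) *
        (Fintype.card F ^ 30 - 1) := by
    intro d h1 hd
    generalize Fintype.card F = q at *
    rcases h1 with h1 | h1
    · have h2 : r ∣ q ^ 120 := dvd_pow h1 (by norm_num)
      exact (((((((h2.mul_right _).mul_right _).mul_right _).mul_right _).mul_right _).mul_right _).mul_right _).mul_right _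
    · simp only [List.mem_cons, List.not_mem_nil, or_false] at hd
      rcases hd with rfl | rfl | rfl | rfl
      · exact (((((((h1.mul_left _).mul_right _).mul_right _).mul_right _).mul_right _).mul_right _).mul_right _).mul_right _
      · exact ((((((h1.mul_left _).mul_right _).mul_right _).mul_right _).mul_right _).mul_right _).mul_right _
      · exact (((((h1.mul_left _).mul_right _).mul_right _).mul_right _).mul_right _).mul_right _
      · exact ((h1.mul_left _).mul_right _).mul_right _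
  rcases prime_lt hr h3 (by omega) with rfl | rfl | rfl | rfl | rfl
  · exact key 2 (dvd_or hq hr (by decide)) (by simp)
  · exact key 8 (dvd_or hq hr (by decide)) (by simp)
  · exact key 12 (dvd_or hq hr (by decide)) (by simp)
  · exact key 20 (dvd_or hq hr (by decide)) (by simp)
  · exact key 12 (dvd_or hq hr (by decide)) (by simp)

theorem le_E7 {r : ℕ} (hr : r.Prime) (h3 : 3 ≤ r) (h : ¬ r ∣ Nat.card ↥(chevE7.group F)) : 17 ≤ r := by
  by_contra hcon
  have hq := Fintype.card_pos (α := F)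
  have e := S1064.result (F := F) (q := Fintype.card F) rfl
  have hg : Nat.Coprime r (Nat.gcd 2 (Fintype.card F - 1)) := by
    rw [Nat.Prime.coprime_iff_not_dvd hr]
    intro h1
    have h2 := Nat.le_of_dvd (by norm_num) (h1.trans (Nat.gcd_dvd_left 2 _))
    omega
  apply h
  refine hg.dvd_of_dvd_mul_left ?_
  rw [e]
  have key : ∀ d, (r ∣ Fintype.card F ∨ r ∣ Fintype.card F ^ d - 1) → d ∈ [2, 6, 8, 10, 12] →
      r ∣ Fintype.card F ^ 63 * (Fintype.card F ^ 2 - 1) * (Fintype.card F ^ 6 - 1) * (Fintype.card F ^ 8 - 1) *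
        (Fintype.card F ^ 10 - 1) * (Fintype.card F ^ 12 - 1) * (Fintype.card F ^ 14 - 1) * (Fintype.card F ^ 18 - 1) := by
    intro d h1 hd
    generalize Fintype.card F = q at *
    rcases h1 with h1 | h1
    · have h2 : r ∣ q ^ 63 := dvd_pow h1 (by norm_num)
      exact ((((((h2.mul_right _).mul_right _).mul_right _).mul_right _).mul_right _).mul_right _).mul_right _
    · simp only [List.mem_cons, List.not_mem_nil, or_false] at hd
      rcases hd with rfl | rfl | rfl | rfl | rfl
      · exact ((((((h1.mul_left _).mul_right _).mul_right _).mul_right _).mul_right _).mul_right _).mul_right _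
      · exact (((((h1.mul_left _).mul_right _).mul_right _).mul_right _).mul_right _).mul_right _
      · exact ((((h1.mul_left _).mul_right _).mul_right _).mul_right _).mul_right _
      · exact (((h1.mul_left _).mul_right _).mul_right _).mul_right _
      · exact ((h1.mul_left _).mul_right _).mul_right _
  rcases prime_lt hr h3 (by omega) with rfl | rfl | rfl | rfl | rfl
  · exact key 2 (dvd_or hq hr (by decide)) (by simp)
  · exact key 8 (dvd_or hq hr (by decide)) (by simp)
  · exact key 6 (dvd_or hq hr (by decide)) (by simp)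
  · exact key 10 (dvd_or hq hr (by decide)) (by simp)
  · exact key 12 (dvd_or hq hr (by decide)) (by simp)

theorem le_F4 {r : ℕ} (hr : r.Prime) (h3 : 3 ≤ r) (h : ¬ r ∣ Nat.card ↥(chevF4.group F)) : 11 ≤ r := by
  by_contra hcon
  have hq := Fintype.card_pos (α := F)
  have e := S1062.result (F := F) (q := Fintype.card F) rfl
  apply h
  rw [e]
  have key : ∀ d, (r ∣ Fintype.card F ∨ r ∣ Fintype.card F ^ d - 1) → d ∈ [2, 6, 8] →
      r ∣ Fintype.card F ^ 24 * (Fintype.card F ^ 2 - 1) * (Fintype.card F ^ 6 - 1) * (Fintype.card F ^ 8 - 1) *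
        (Fintype.card F ^ 12 - 1) := by
    intro d h1 hd
    generalize Fintype.card F = q at *
    rcases h1 with h1 | h1
    · have h2 : r ∣ q ^ 24 := dvd_pow h1 (by norm_num)
      exact (((h2.mul_right _).mul_right _).mul_right _).mul_right _
    · simp only [List.mem_cons, List.not_mem_nil, or_false] at hd
      rcases hd with rfl | rfl | rfl
      · exact (((h1.mul_left _).mul_right _).mul_right _).mul_right _
      · exact ((h1.mul_left _).mul_right _).mul_right _
      · exact (h1.mul_left _).mul_right _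
  rcases prime_lt hr h3 (by omega) with rfl | rfl | rfl | rfl | rfl
  · exact key 2 (dvd_or hq hr (by decide)) (by simp)
  · exact key 8 (dvd_or hq hr (by decide)) (by simp)
  · exact key 6 (dvd_or hq hr (by decide)) (by simp)
  · omega
  · omega

/-- the part for `E₆` and `²E₆` -/
theorem dvd_six {q r g c A B C : ℕ} (hq : 0 < q) (hr : r.Prime) (h3 : 3 ≤ r) (h11 : r < 11) (hg : g ∣ 3)
    (e : g * c = q ^ 36 * (q ^ 2 - 1) * A * (q ^ 6 - 1) * (q ^ 8 - 1) * B * C) : r ∣ c := by
  have hall : ∀ d, (r ∣ q ∨ r ∣ q ^ d - 1) → d ∈ [2, 6, 8] →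
      r ∣ q ^ 36 * (q ^ 2 - 1) * A * (q ^ 6 - 1) * (q ^ 8 - 1) * B * C := by
    intro d h1 hd
    rcases h1 with h1 | h1
    · have h2 : r ∣ q ^ 36 := dvd_pow h1 (by norm_num)
      exact (((((h2.mul_right _).mul_right _).mul_right _).mul_right _).mul_right _).mul_right _
    · simp only [List.mem_cons, List.not_mem_nil, or_false] at hd
      rcases hd with rfl | rfl | rfl
      · exact (((((h1.mul_left _).mul_right _).mul_right _).mul_right _).mul_right _).mul_right _
      · exact (((h1.mul_left _).mul_right _).mul_right _).mul_right _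
      · exact ((h1.mul_left _).mul_right _).mul_right _
  have hcop : r ≠ 3 → r ∣ g * c → r ∣ c := by
    intro h1 h2
    refine Nat.Coprime.dvd_of_dvd_mul_left ?_ h2
    rw [Nat.Prime.coprime_iff_not_dvd hr]
    intro h4
    exact h1 ((Nat.prime_dvd_prime_iff_eq hr Nat.prime_three).1 (h4.trans hg))
  rcases prime_lt hr h3 (by omega) with rfl | rfl | rfl | rfl | rfl
  · -- `9` divides the right hand side
    have h9 : 3 * 3 ∣ g * c := by
      rw [e]
      rcases dvd_or (d := 2) hq hr (by decide) with h1 | h1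
      · have h2 : 3 * 3 ∣ q ^ 36 := by
          have h3' : (3 : ℕ) ^ 36 ∣ q ^ 36 := pow_dvd_pow_of_dvd h1 36
          exact Dvd.dvd.trans (by norm_num) h3'
        exact (((((h2.mul_right _).mul_right _).mul_right _).mul_right _).mul_right _).mul_right _
      · rcases dvd_or (d := 6) hq hr (by decide) with h2 | h2
        · have h2' : 3 * 3 ∣ q ^ 36 := by
            have h3' : (3 : ℕ) ^ 36 ∣ q ^ 36 := pow_dvd_pow_of_dvd h2 36
            exact Dvd.dvd.trans (by norm_num) h3'
          exact (((((h2'.mul_right _).mul_right _).mul_right _).mul_right _).mul_right _).mul_right _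
        · have h4 : 3 ∣ q ^ 36 * (q ^ 2 - 1) * A := (h1.mul_left _).mul_right _
          exact (((mul_dvd_mul h4 h2).mul_right _).mul_right _).mul_right _
    obtain ⟨m, hm⟩ := hg
    have h5 : 3 * 3 ∣ 3 * c := by
      have h6 : 3 * c = g * c * m := by rw [hm]; ring
      rw [h6]
      exact h9.mul_right _
    exact Nat.dvd_of_mul_dvd_mul_left (by norm_num) h5
  · exact hcop (by norm_num) (e ▸ hall 8 (dvd_or hq hr (by decide)) (by simp))
  · exact hcop (by norm_num) (e ▸ hall 6 (dvd_or hq hr (by decide)) (by simp))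
  · omega
  · omega

theorem le_E6 {r : ℕ} (hr : r.Prime) (h3 : 3 ≤ r) (h : ¬ r ∣ Nat.card ↥(chevE6.group F)) : 11 ≤ r := by
  by_contra hcon
  exact h (dvd_six Fintype.card_pos hr h3 (by omega) (Nat.gcd_dvd_left 3 _)
    (S1063.result (F := F) (q := Fintype.card F) rfl))

theorem le_twE6 {q : ℕ} (hq : IsPrimePow q) (hF : Fintype.card F = q ^ 2) {r : ℕ} (hr : r.Prime) (h3 : 3 ≤ r)
    (h : ¬ r ∣ Nat.card ↥(twistedE6 F q)) : 11 ≤ r := by
  by_contra hcon
  exact h (dvd_six hq.pos hr h3 (by omega) (Nat.gcd_dvd_left 3 _) (S1066.result hq hF))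

end Cfsg.Agent.H208.PiExc
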