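import Cfsg.Agent.H208.PiExc.Cases
import Cfsg.Agent.H326.PiC.Main
import Cfsg.Agent.H208.PiExc.Ord

/-!
# S4324 (helper208): the rows `CY` of `E₇`, `E₈`, `E₆`

* `CY.tr` : `CY` is invariant under isomorphisms;
* `cy_of_cases` : `CY t K` from: every `x` of prime order is algebraic or `N'` conjugates generate all inner automorphisms;
* `no_graph_78` : no graph automorphisms in the types `E₇`, `E₈`.
-/

set_option autoImplicit false
set_option linter.unusedSectionVars false

namespace Cfsg.Agent.H208.PiExc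

open Subgroup Cfsg Cfsg.Lie Cfsg.Lie.ChevalleyDatum
open Cfsg.Agent.H216.Pi Cfsg.Agent.Nodes.RGDChev
open Cfsg.Agent.ChevalleyStructure Cfsg.Agent.ChevalleyStructure.Elts Cfsg.Agent.ChevalleyStructure.CoxeterGeomTypes

universe u v

theorem isCyclic_sylow {K : Type u} {L : Type v} [Group K] [Group L] [Finite K] [Finite L] (e : K ≃* L) {s : ℕ}
    [Fact s.Prime] (h : ∀ P : Sylow s L, IsCyclic (P : Subgroup L)) (P : Sylow s K) : IsCyclic (P : Subgroup K) := by
  obtain ⟨Q⟩ : Nonempty (Sylow s L) := inferInstance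
  have h1 : IsPGroup s ↥((P : Subgroup K).map e.toMonoidHom) := P.2.map _
  obtain ⟨R, hR⟩ := h1.exists_le_sylow
  have h2 := h R
  have h3 : IsCyclic ↥((P : Subgroup K).map e.toMonoidHom) := by
    have h4 : IsCyclic ↥(((P : Subgroup K).map e.toMonoidHom).subgroupOf (R : Subgroup L)) := inferInstance
    exact ((subgroupOfEquivOfLe hR).isCyclic).1 h4
  exact (((P : Subgroup K).equivMapOfInjective e.toMonoidHom e.injective).isCyclic).2 h3

/-- `CY` is invariant under isomorphisms. -/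
theorem cy_tr {K : Type u} {L : Type v} [Group K] [Group L] [Finite K] [Finite L] (e : K ≃* L) {t : ℕ} (h : CY t K) :
    CY t L := by
  intro s r x hs hr hr3 hrs hrK hst hsK hP hx hxs hxr hPC hFC
  have : Fact s.Prime := ⟨hs⟩
  have hcard : Nat.card L = Nat.card K := (Nat.card_congr e.toEquiv).symm
  have ho : orderOf (H459.Rad.tr e.symm x) = orderOf x := H459.Rad.orderOf_tr e.symm x
  rw [hcard] at hrK hsK
  exact h s r (H459.Rad.tr e.symm x) hs hr hr3 hrs hrK hst hsK (isCyclic_sylow e hP) (by rw [ho]; exact hx)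
    (by rw [ho]; exact hxs) (by rw [ho]; exact hxr) (hPC.tr e.symm) (hFC.tr e.symm)

theorem center_eq_bot_of_simple {K : Type u} [Group K] [IsSimpleGroup K] (hK : ¬ IsMulCommutative K) :
    Subgroup.center K = ⊥ := by
  rcases (inferInstance : (Subgroup.center K).Normal).eq_bot_or_eq_top with h | h
  · exact h
  · exfalso
    apply hK
    refine ⟨⟨fun a b => ?_⟩⟩
    have h1 : b ∈ Subgroup.center K := by rw [h]; exact mem_top b
    exact mem_center_iff.1 h1 a

/-- **`CY` from the case distinction.** -/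
theorem cy_of_cases {K : Type u} [Group K] [Finite K] [IsSimpleGroup K] (hK : ¬ IsMulCommutative K) {t N : ℕ}
    (hN : ∀ r : ℕ, r.Prime → 3 ≤ r → ¬ r ∣ Nat.card K → N ≤ mm r)
    (h : ∀ x : MulAut K, (orderOf x).Prime → (∀ (s : ℕ) (y : K), s.Prime → s ≠ t → orderOf y = s → fus x y ≤ N) ∨
      ∀ z : K, Cfsg.Agent.H216.Pi.InC N x (MulAut.conj z)) : CY t K := by
  intro s r x hs hr hr3 hrs hrK hst hsK hP hx hxs hxr hPC hFC
  have hF := hFC.mono (hN r hr hr3 hrK)
  have : Fact s.Prime := ⟨hs⟩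
  rcases h x hx with h1 | h1
  · obtain ⟨y, hy⟩ := exists_prime_orderOf_dvd_card' (G := K) s hsK
    exact H326.PiC.false_of_fus hK hs hP hx hxs hy (h1 s y hs hst hy) hF
  · exact H249.Pi.FldType.not_fc_of_all hs hsK (center_eq_bot_of_simple hK) h1 hF

/-- no graph automorphisms in the types `E₇`, `E₈` -/
theorem no_graph_78 {D : ChevalleyDatum} (hD : D = chevE7 ∨ D = chevE8) {F : Type u} [Field F]
    {g : MulAut ↥(D.group F)} (hg : D.IsGraphAut g) : g = 1 := by
  have hL : InList D := by rcases hD with rfl | rfl <;> simp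
  obtain ⟨π, hπs, hπ⟩ := H79.OutChev.isGraphAut_isGr hL hg
  have h1 : π = 1 := by
    rcases hD with rfl | rfl
    · exact H79.DiagSymm.eq_one_E7 hπs
    · exact H79.DiagSymm.eq_one_E8 hπs
  subst h1
  exact H79.OutChev.isGr_one hπ

/-! ### `E₇`, `E₈` -/

/-- the fusion bound for algebraic automorphisms of `D.group F` -/
theorem fus_le_of_algX {D : ChevalleyDatum} {l : ℕ} {M : CoxeterMatrix (Fin l)} {hp : IsType D l M} {F : Type u}
    [Field F] [Finite F] {t : ℕ} [Fact t.Prime] [CharP F t] [CharP (AlgebraicClosure F) t] {x : MulAut ↥(D.group F)}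
    (h : AlgX hp t (GpExc.Field.emb hp.inList (algebraMap F (AlgebraicClosure F))) x) {N : ℕ}
    (hN : ∀ n : ℕ, n.totient ≤ l → n ≤ N) (s : ℕ) (y : ↥(D.group F)) (hs : s.Prime) (hst : s ≠ t)
    (hy : orderOf y = s) : fus x y ≤ N :=
  h.fus_le (H296.Core.locFin_closure F t) (hAlg_closure F t) (GpExc.Field.emb_injective hp.inList _) hs hst hN hy

/-- **The row `CY` of `E₇(F)`, `E₈(F)`.** -/
theorem cy_78 {D : ChevalleyDatum} (hD : D = chevE7 ∨ D = chevE8) {F : Type u} [Field F] [Fintype F] {t : ℕ}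
    [Fact t.Prime] [CharP F t] [Finite ↥(D.group F)] [IsSimpleGroup ↥(D.group F)]
    (hK : ¬ IsMulCommutative ↥(D.group F)) : CY t ↥(D.group F) := by
  have hE : H249.Pi.FldType.Ex5 D := by
    rcases hD with rfl | rfl <;> simp [H249.Pi.FldType.Ex5]
  have hch := H296.Core.charP_closure F t
  refine cy_of_cases hK (N := 30) (fun r hr h3 hd => ?_) fun x hx => ?_
  · have h17 : 17 ≤ r := by
      rcases hD with rfl | rfl
      · exact le_E7 hr h3 hd
      · exact le_E8 hr h3 hd
    unfold mm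
    omega
  · have hrank : 2 * D.rank + 2 ≤ 30 := by rcases hD with rfl | rfl <;> decide
    rcases H249.Pi.FldType.field_or hE hx (pow_orderOf_eq_one x) with h1 | ⟨y, d, hd, h1⟩ | ⟨y, d, g, φ, hd, hg, hg1, -, -⟩
    · exact Or.inr fun z => (h1 z).mono hrank
    · left
      rcases hD with rfl | rfl
      · exact fus_le_of_algX (algX_diag (hp := BpExc.RowsUntw.e7T) BpExc.FamInst.inv_E7 (by norm_num) hd h1)
          (fun n h => (le_of_totient7 n h).trans (by norm_num))
      · exact fus_le_of_algX (algX_diag (hp := BpExc.RowsUntw.e8T) BpExc.FamInst.inv_E8 (by norm_num) hd h1)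
          (fun n h => le_of_totient8 n h)
    · exact absurd (no_graph_78 hD hg) hg1

/-! ### `E₆` -/

/-- the graph-field case of `E₆` (helper249) -/
def GF6 (F : Type u) [Field F] : Prop :=
  ∀ (x : MulAut ↥(chevE6.group F)) (y : ↥(chevE6.group F)) (d g φ : MulAut ↥(chevE6.group F)),
    x * x = 1 → chevE6.IsDiagonalAut d → chevE6.IsGraphAut g → chevE6.IsFieldAut φ → g ≠ 1 → φ ≠ 1 →
    (∀ a, x a = y * d (g (φ a)) * y⁻¹) → ∀ z, Cfsg.Agent.H216.Pi.InC 14 x (MulAut.conj z)

/-- the square of an automorphism with a graph part -/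
theorem sq_six {F : Type u} [Field F] {x : MulAut ↥(chevE6.group F)} {y : ↥(chevE6.group F)}
    {d g φ : MulAut ↥(chevE6.group F)} (hd : chevE6.IsDiagonalAut d) (hg : chevE6.IsGraphAut g) (hg1 : g ≠ 1)
    (hφ : chevE6.IsFieldAut φ) (hx : ∀ a, x a = y * d (g (φ a)) * y⁻¹) :
    ∃ (y' : ↥(chevE6.group F)) (d' φ' : MulAut ↥(chevE6.group F)), chevE6.IsDiagonalAut d' ∧ chevE6.IsFieldAut φ' ∧
      ∀ a, (x ^ 2) a = y' * d' (φ' a) * y'⁻¹ := by
  have hD : InList chevE6 := by simp
  have hE := H79.DiagAuts.diagFacts hD F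
  obtain ⟨c, hc⟩ := hE.exists_c d hd
  obtain ⟨π, hπs, hπ⟩ := H79.OutChev.isGraphAut_isGr hD hg
  obtain ⟨σ, rfl⟩ := (H79.FieldAuts.isFieldAut_iff hD φ).1 hφ
  obtain ⟨c1, hc1⟩ := hc.conj_field hE σ
  obtain ⟨c2, hc2⟩ := H79.OutChev.IsD.conj_graph hE hπ hc1
  have hgφ := hπ.comm_field σ
  have hgg : g * g = 1 := by
    rw [H296.ESixGF.eq_gr hg hg1]
    exact H296.ESixGF.gr_sq6
  set φ := H79.FieldAuts.fieldHom hD F σ with hφd
  have hxe : x = MulAut.conj y * (d * (g * φ)) := by
    ext1 a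
    rw [hx]
    rfl
  obtain ⟨w, hw⟩ : ∃ w, w = d * (g * φ) := ⟨_, rfl⟩
  have h2 : x ^ 2 = MulAut.conj (y * w y) * (w * w) := by
    rw [hxe, ← hw, pow_two, map_mul]
    calc MulAut.conj y * w * (MulAut.conj y * w) = MulAut.conj y * (w * MulAut.conj y) * w := by group
      _ = MulAut.conj y * (MulAut.conj (w y) * w) * w := by rw [mul_conj']
      _ = _ := by group
  have h3 : w * w = (d * (g * (φ * d * φ⁻¹) * g⁻¹)) * (φ * φ) := by
    rw [hw]
    calc d * (g * φ) * (d * (g * φ)) = d * (g * (φ * d * φ⁻¹) * g⁻¹) * (g * (φ * g) * φ) := by group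
      _ = d * (g * (φ * d * φ⁻¹) * g⁻¹) * (g * g * (φ * φ)) := by rw [← hgφ]; group
      _ = _ := by rw [hgg, one_mul]
  refine ⟨y * w y, d * (g * (φ * d * φ⁻¹) * g⁻¹), φ * φ, hE.isDiag _ _ (hc.mul hc2), ?_, fun a => ?_⟩
  · exact (H79.FieldAuts.isFieldAut_iff hD _).2 ⟨σ * σ, by rw [map_mul]⟩
  · rw [h2, h3]
    rfl

/-- **The automorphisms of prime order of `E₆(F)`.** -/
theorem cases_six {F : Type u} [Field F] [Finite F] (hGF : GF6 F) {t : ℕ} [Fact t.Prime] [CharP F t]
    [CharP (AlgebraicClosure F) t] {x : MulAut ↥(chevE6.group F)} (hx : (orderOf x).Prime) :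
    AlgX H296.ESixGF.hp6 t (GpExc.Field.emb H296.ESixGF.hp6.inList (algebraMap F (AlgebraicClosure F))) x ∨
      ∀ z, Cfsg.Agent.H216.Pi.InC 14 x (MulAut.conj z) := by
  have hE : H249.Pi.FldType.Ex5 chevE6 := by simp [H249.Pi.FldType.Ex5]
  have hrank : 2 * chevE6.rank + 2 = 14 := by decide
  rcases H249.Pi.FldType.field_or hE hx (pow_orderOf_eq_one x) with h1 | ⟨y, d, hd, h1⟩ | ⟨y, d, g, φ, hd, hg, hg1, hφ, h1⟩
  · exact Or.inr fun z => hrank ▸ h1 z
  · exact Or.inl (algX_diag BpExc.FamInst.inv_E6 (by norm_num) hd h1)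
  · by_cases hφ1 : φ = 1
    · left
      subst hφ1
      rw [H296.ESixGF.eq_gr hg hg1] at h1
      exact algX_graph hd h1
    · rcases eq_or_ne (orderOf x) 2 with h2 | h2
      · right
        refine hGF x y d g φ ?_ hd hg hφ hg1 hφ1 h1
        rw [← pow_two, ← h2, pow_orderOf_eq_one]
      · obtain ⟨y', d', φ', hd', hφ', h3⟩ := sq_six hd hg hg1 hφ h1
        by_cases hφ'1 : φ' = 1
        · left
          subst hφ'1
          have h4 := algX_diag (hp := H296.ESixGF.hp6) (r := t) (f := algebraMap F (AlgebraicClosure F))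
            BpExc.FamInst.inv_E6 (by norm_num) hd' h3
          have h5 : x = (x ^ 2) ^ ((orderOf x + 1) / 2) := by
            rw [← pow_mul]
            have h6 : 2 * ((orderOf x + 1) / 2) = orderOf x + 1 := by
              have := hx.odd_of_ne_two h2
              obtain ⟨c, hc⟩ := this
              omega
            rw [h6, pow_succ, pow_orderOf_eq_one, one_mul]
          rw [h5]
          exact h4.pow _
        · right
          have h4 : (x ^ 2) ^ orderOf x = 1 := by rw [← pow_mul, mul_comm, pow_mul, pow_orderOf_eq_one, one_pow]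
          have h5 := H249.Pi.FldType.inC_of_field hE hx h4 hd' hφ' hφ'1 h3
          rw [hrank] at h5
          exact H249.Pi.FldType.inC_of_pow h5

/-- **The row `CY` of `E₆(F)`.** -/
theorem cy_six {F : Type u} [Field F] [Fintype F] (hGF : GF6 F) {t : ℕ} [Fact t.Prime] [CharP F t]
    [Finite ↥(chevE6.group F)] [IsSimpleGroup ↥(chevE6.group F)] (hK : ¬ IsMulCommutative ↥(chevE6.group F)) :
    CY t ↥(chevE6.group F) := by
  have hch := H296.Core.charP_closure F t
  refine cy_of_cases hK (N := 18) (fun r hr h3 hd => ?_) fun x hx => ?_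
  · have h11 : 11 ≤ r := le_E6 hr h3 hd
    unfold mm
    omega
  · rcases cases_six (t := t) hGF hx with h1 | h1
    · exact Or.inl (fus_le_of_algX h1 le_of_totient6)
    · exact Or.inr fun z => (h1 z).mono (by norm_num)

end Cfsg.Agent.H208.PiExc
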